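import Cfsg.Agent.Lib.Comp.LyN.Up1
import Cfsg.Agent.Lib.Comp.Sym8
import Cfsg.Agent.Lib.Comp.LyN.Gw

set_option maxRecDepth 100000
set_option Elab.async false

namespace Cfsg.Lib.Comp.LyN

universe u

noncomputable def lb1 : SL := (1,[38,40,39,36,38,40,39,38,36,40,38,39,36,38,40,39,38,36,39],[(41,12501),
 (42,12536),
 (12,12655),
 (13,15780),
 (14,1)],(35,0),42,1,0,[],1)

noncomputable def lb2 : SL := (2,[44,46,45,44,46,45,47,46,44,45,46,47,45,44,45,47,45,46,44,44],[(48,11825),
 (49,12715),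
 (50,12510),
 (60,13472),
 (62,12655),
 (65,10989),
 (69,14580),
 (82,17184),
 (87,15843),
 (93,17144)],(43,0),50,63,117,[70,72,74,76,78,90,84,86,80,74,72,70,76,90,80],3125)

noncomputable def lb3 : SL := (3,[52,54,56,52,53,58,54,52,56,54,52,58,54,56,52,54,52,52],[(59,19160),
 (61,16123),
 (63,18290),
 (64,7093),
 (66,3751),
 (67,8343),
 (68,6354),
 (70,5351),
 (71,219),
 (78,15071),
 (79,15673),
 (89,16778),
 (96,17701),
 (101,16831),
 (107,16822),
 (109,18484),
 (111,8581)],(51,0),71,36,118,[80,70,72,74,76,78,82,88,84,80,74,90,82,86,80],3750)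

noncomputable def lb4 : SL := (4,[73,74,73,73,75,74,73,76,74,73,74,75,74,73,76,73,73,73],[(77,15781),
 (80,15923),
 (81,11819),
 (83,13462),
 (84,18532),
 (85,15854),
 (86,18537),
 (88,12655),
 (90,12807),
 (91,19076),
 (92,15561),
 (94,14378),
 (95,14145),
 (97,12911),
 (98,13282),
 (99,17711),
 (100,14092),
 (102,14524),
 (103,15951),
 (104,14518),
 (105,18560),
 (106,15545),
 (108,13275),
 (110,10713),
 (112,9613),
 (113,12340),
 (114,7841),
 (115,14584),
 (116,7188)],(72,0),116,42,119,[80,70,72,74,76,78,90,82,86,84,80,88,74,90,84,76,80],12500)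

def na : ℕ := 15

def nf : ℕ := 120

theorem rn : Cons.{u} iv Ly.R R := cons_of_subset (by decide +kernel)

theorem pr_ok : PrOK iv 23 L Ly.L j1 j2 uPR GW := by decide +kernel

theorem semi_ok : semiB tb B Lc al uPR D0 = true := by decide +kernel

theorem ax_ok : AxOK (L.map fun x => [x]) uPA uF L Lc 15 := by decide +kernel

theorem nodes_ok : allL uV (nodeB nets tb Lc uF 120 19530 15 5859000000 (mapL (·.1) uV)) = true := by decide +kernel

theorem nodes_eq : mapL (·.1) uV = [0, 1, 2, 3, 4] := by decide +kernel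

theorem nodes_sz : ∀ k < 5, ∃ v ∈ uV, v.1 = k ∧ v.2.2.2.2.2 = nth 0 [1, 19530, 968750, 2034375, 5812500] k := by
  decide +kernel

theorem cov1 : covB nets tb Lc uF 120 19530 15 [1, 2, 3, 4] 0 lb1 = true := by decide +kernel

theorem cov2 : allL [lb2, lb3, lb4] (fun v => cnd (covB nets tb Lc uF 120 19530 15 [2, 3, 4] 1 v)
    (cnd (nfxB nets uF 120 19530 15 v) (endB8 nets tb Lc L0 al uF 15 v) false) false) = true := by decide +kernel

theorem loops : allL [lb1, lb2, lb3, lb4] (loopB uF 120) = true := by decide +kernel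

end Cfsg.Lib.Comp.LyN
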