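import Cfsg.Agent.Lib.Comp.LyP.Main
import Cfsg.Agent.Lib.Comp.Sym6

set_option maxRecDepth 100000
set_option Elab.async false

namespace Cfsg.Lib.Comp.LyN

universe u

abbrev iv := Ly.iv

noncomputable def R : List (List ℕ × ℕ) := (apd [([1],7),
 ([3],4),
 ([1,3],3),
 ([2,2,4,1,1,3],0),
 ([2,4,1,3],2),
 ([11,2,6,1],0),
 ([13,4,6,3],0),
 ([15,3,6,4],0),
 ([17,12,6,11,5],0),
 ([5],4),
 ([17],4),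
 ([6,18,5,17],0),
 ([12,18,11,17],0),
 ([14,18,13,17],0),
 ([16,18,15,17],0),
 ([6,14,5,13,17,17],0),
 ([6,16,5,15,18,18],0),
 ([12,14,11,13,17],0),
 ([12,16,11,15],0),
 ([14,16,13,15,17],0),
 ([2,11,1,5,5],0),
 ([2,13,1,16,6,13,13],0),
 ([2,15,1,16,6,16,13,11,6],0),
 ([2,17,1,18,18],0),
 ([4,11,3,15,5,15,14,12],0),
 ([4,13,3,13,13,16,6,6],0),
 ([4,17,3,18],0),
 ([9,8,6,8,3,2,4,6,8,2,6,1,6,2,5,1,3,3],0),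
 ([9],1),
 ([10,5,9,5,4,14,4],0),
 ([10,13,9,1,15,5,12,2,4,4],0),
 ([10,15,9,16,13,4,4],0),
 ([10,17,9,15,6,13,6],0),
 ([9,1,1,9,15,18,6,2,3,2,4,4,2],0),
 ([10,3,9,15,15,13,6],0),
 ([9,1,3,3,1,4,1,9,15,18,6,2,2],0),
 ([9,11,9,12,9,11,16,1,13,1,1,1],0),
 ([7,10,4,11,2,10,2,10,2,17,15,5,3,1,4,4,2],0),
 ([7,7,2,2,2,2],0),
 ([4,8,3,7],0)]
 [([8,1,7,2,2,2],0),
 ([7,17],4),
 ([7,17,7,18,7,17,2,2],0),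
 ([19,3,2,4],0),
 ([21,3,3,2,4,4],0),
 ([1,2],0),
 ([3,4],0),
 ([5,6],0),
 ([7,8],0),
 ([9,10],0),
 ([11,12],0),
 ([13,14],0),
 ([15,16],0),
 ([17,18],0),
 ([19,20],0),
 ([21,22],0)])

def L : List ℕ := [1,2,3,4,5,6,7,8,9,10,11,12,13,14,15,16,17,18,19,20,21,22]

end Cfsg.Lib.Comp.LyN
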