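import Cfsg.Agent.Lib.Comp.LyN.Perm2

set_option maxRecDepth 100000
set_option Elab.async false

namespace Cfsg.Lib.Comp.LyN

universe u

theorem card : Nat.card (cl (gp nets) L) = 5859000000 := card_of_ord LyP.ord nets_iv nets_rel lb

noncomputable def Lc : List ℕ := (apd [1,2,3,4,5,6,7,8,9,10,11,12,13,14,15,16,17,18,19,20,21,22,64,65,66,67,68,69,70,71,72,73,74,75,76,77,78,79,80,81,82,83,84,85,86,87,88,89,90,91,92,93,94,95,96,97,98,99,100,101]
 [102,103])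

theorem cl_lc : cl (gp nets) Lc = cl (gp nets) L := by
  rw [show Lc = L ++ slp.map (·.1) by decide +kernel]
  exact cl_eq_of_slpB nets_ok (by norm_num) slp_ok

noncomputable def Lv : List Lev := [([1,2,5,6,11,12,13,14,15,16,17,18,19,20,21,22],[3,7,9,1,5,19,11,7,15,9,1,13,7,11,21,9,1,19,3],0,0,19530),
 ([1,2,19,20],[5,11,13,15,17,21,19,1,13,11,21,19,15,1,13,19,5,1],1,1,12500),
 ([],[1,19,1,1,1,1,1,1,1],12505,12505,24)]

theorem ex : Exact nets Lv Lc := exact_of_beq (n := 5859000000) (by rw [cl_lc]; exact card.le) (by decide +kernel)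

noncomputable def tb : ℕ → ℕ → ℕ := tbx 32768 (tbk 15 4 prs15 nets 256)

theorem tb_ok : TbA nets tb := tbA_tbx nets_ok (tbk_eq tr15 (by norm_num) (by norm_num) (by norm_num) nets_ok)

def B : List ℕ := [0,1,12505]

def civ : ℕ → ℕ := fun x => look (nat_lit 0x66676465626360615e5f5c5d5a5b585956575455525350514e4f4c4d4a4b484946474445424340413f3e3d3c3b3a393837363534333231302f2e2d2c2b2a292827262524232221201f1e1d1c1b1a1917181516131411120f100d0e0b0c090a070805060304010200) 8 x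

def al : ℕ → ℕ := fun x => look (nat_lit 0x5b5a595857560000000000000000000000000000000000000000000000000000000000000000000000000000000000555453524f4e4d4c4b4a49480000000047460000515000) 8 x

def j1 : List ℕ := []

def j2 : List ℕ := [2,2]

theorem ctl : Ctl nets tb B Lc civ (cl (gp nets) L) :=
  ctl_of tb_ok (by rw [← cl_lc, show B = bases Lv by decide +kernel]; exact ex.isBase nets_ok) (fun _ ha => cl_lc ▸ mem_cl ha) (by decide +kernel)

noncomputable def D0 : List (ℕ × ℕ × List ℕ) := [(69,0,[14,66,11,11,5,13,22,22,13]),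
 (68,0,[14,21,21,14,6,12,12,67,13]),
 (67,0,[11,64,12,21,21,19,16,11,17]),
 (66,0,[18,12,15,20,22,22,11,65,12]),
 (65,0,[16,13,6,6,21,18,11,13,5]),
 (64,0,[6,14,12,17,22,5,5,14,15]),
 (5,1,[2,4,5,2,3,5,4,1,3,1]),
 (6,2,[2,4,2,3,6,4,1,6,3,1]),
 (11,3,[4,6,4,1,6,2,3,3]),
 (12,4,[4,4,1,5,2,3,5,3]),
 (13,5,[2,4,2,6,1,3,1]),
 (14,6,[2,4,2,5,1,3,1]),
 (15,7,[4,2,3,6,4,1,3]),
 (16,8,[4,2,3,5,4,1,3]),
 (17,9,[5,3,3,6,2,4,6,3,1,4,4]),
 (18,10,[3,3,2,4,5,3,1,5,4,4,6]),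
 (1,11,[1,1,1]),
 (2,12,[2,2,2]),
 (19,13,[1,1,3,1,4]),
 (20,14,[3,2,4,2,2]),
 (21,15,[1,3,3,2,4,4,2]),
 (22,16,[1,3,3,1,4,4,2])]

noncomputable def L0 : List ℕ := mapL (·.1) D0

theorem lev0 : (∀ g ∈ cl (gp nets) L, g 0 < 19530) ∧ ∀ g ∈ cl (gp nets) L, g 0 = 0 → g ∈ cl (gp nets) L0 :=
  Exact.ctl nets_ok ex cl_lc (by decide +kernel)

theorem l0_sub : ∀ a ∈ L0, a ∈ Lc := sub_of_subB (by decide +kernel)

theorem l0_fix : ∀ g ∈ cl (gp nets) L0, g 0 = 0 := fix_letters tb_ok (by decide +kernel)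

end Cfsg.Lib.Comp.LyN
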