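import Cfsg.Agent.Lib.Comp.LyN.Perm0

set_option maxRecDepth 100000
set_option Elab.async false

namespace Cfsg.Lib.Comp.LyN

universe u

theorem nets_r0_0 : eqB 32768 15 0 15 nets [1] 7 [] = true := by decide +kernel

theorem nets_r1_0 : eqB 32768 15 0 15 nets [3] 4 [] = true := by decide +kernel

theorem nets_r2_0 : eqB 32768 15 0 15 nets [1,3] 3 [] = true := by decide +kernel

theorem nets_r3_0 : eqB 32768 15 0 15 nets [2,2,4,1,1,3] 0 [] = true := by decide +kernel

theorem nets_r4_0 : eqB 32768 15 0 15 nets [2,4,1,3] 2 [] = true := by decide +kernel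

theorem nets_r5_0 : eqB 32768 15 0 15 nets [11,2,6,1] 0 [] = true := by decide +kernel

theorem nets_r6_0 : eqB 32768 15 0 15 nets [13,4,6,3] 0 [] = true := by decide +kernel

theorem nets_r7_0 : eqB 32768 15 0 15 nets [15,3,6,4] 0 [] = true := by decide +kernel

theorem nets_r8_0 : eqB 32768 15 0 15 nets [17,12,6,11,5] 0 [] = true := by decide +kernel

theorem nets_r9_0 : eqB 32768 15 0 15 nets [5] 4 [] = true := by decide +kernel

theorem nets_r10_0 : eqB 32768 15 0 15 nets [17] 4 [] = true := by decide +kernel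

theorem nets_r11_0 : eqB 32768 15 0 15 nets [6,18,5,17] 0 [] = true := by decide +kernel

theorem nets_r12_0 : eqB 32768 15 0 15 nets [12,18,11,17] 0 [] = true := by decide +kernel

theorem nets_r13_0 : eqB 32768 15 0 15 nets [14,18,13,17] 0 [] = true := by decide +kernel

theorem nets_r14_0 : eqB 32768 15 0 15 nets [16,18,15,17] 0 [] = true := by decide +kernel

theorem nets_r15_0 : eqB 32768 15 0 15 nets [6,14,5,13,17,17] 0 [] = true := by decide +kernel

theorem nets_r16_0 : eqB 32768 15 0 15 nets [6,16,5,15,18,18] 0 [] = true := by decide +kernel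

theorem nets_r17_0 : eqB 32768 15 0 15 nets [12,14,11,13,17] 0 [] = true := by decide +kernel

theorem nets_r18_0 : eqB 32768 15 0 15 nets [12,16,11,15] 0 [] = true := by decide +kernel

theorem nets_r19_0 : eqB 32768 15 0 15 nets [14,16,13,15,17] 0 [] = true := by decide +kernel

theorem nets_r20_0 : eqB 32768 15 0 15 nets [2,11,1,5,5] 0 [] = true := by decide +kernel

theorem nets_r21_0 : eqB 32768 15 0 15 nets [2,13,1,16,6,13,13] 0 [] = true := by decide +kernel

theorem nets_r22_0 : eqB 32768 15 0 15 nets [2,15,1,16,6,16,13,11,6] 0 [] = true := by decide +kernel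

theorem nets_r23_0 : eqB 32768 15 0 15 nets [2,17,1,18,18] 0 [] = true := by decide +kernel

theorem nets_r24_0 : eqB 32768 15 0 15 nets [4,11,3,15,5,15,14,12] 0 [] = true := by decide +kernel

theorem nets_r25_0 : eqB 32768 15 0 15 nets [4,13,3,13,13,16,6,6] 0 [] = true := by decide +kernel

theorem nets_r26_0 : eqB 32768 15 0 15 nets [4,17,3,18] 0 [] = true := by decide +kernel

theorem nets_r27_0 : eqB 32768 15 0 15 nets [9,8,6,8,3,2,4,6,8,2,6,1,6,2,5,1,3,3] 0 [] = true := by decide +kernel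

theorem nets_r28_0 : eqB 32768 15 0 15 nets [9] 1 [] = true := by decide +kernel

theorem nets_r29_0 : eqB 32768 15 0 15 nets [10,5,9,5,4,14,4] 0 [] = true := by decide +kernel

theorem nets_r30_0 : eqB 32768 15 0 15 nets [10,13,9,1,15,5,12,2,4,4] 0 [] = true := by decide +kernel

theorem nets_r31_0 : eqB 32768 15 0 15 nets [10,15,9,16,13,4,4] 0 [] = true := by decide +kernel

theorem nets_r32_0 : eqB 32768 15 0 15 nets [10,17,9,15,6,13,6] 0 [] = true := by decide +kernel

theorem nets_r33_0 : eqB 32768 15 0 15 nets [9,1,1,9,15,18,6,2,3,2,4,4,2] 0 [] = true := by decide +kernel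

theorem nets_r34_0 : eqB 32768 15 0 15 nets [10,3,9,15,15,13,6] 0 [] = true := by decide +kernel

theorem nets_r35_0 : eqB 32768 15 0 15 nets [9,1,3,3,1,4,1,9,15,18,6,2,2] 0 [] = true := by decide +kernel

theorem nets_r36_0 : eqB 32768 15 0 15 nets [9,11,9,12,9,11,16,1,13,1,1,1] 0 [] = true := by decide +kernel

theorem nets_r37_0 : eqB 32768 15 0 15 nets [7,10,4,11,2,10,2,10,2,17,15,5,3,1,4,4,2] 0 [] = true := by decide +kernel

theorem nets_r38_0 : eqB 32768 15 0 15 nets [7,7,2,2,2,2] 0 [] = true := by decide +kernel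

theorem nets_r39_0 : eqB 32768 15 0 15 nets [4,8,3,7] 0 [] = true := by decide +kernel

theorem nets_r40_0 : eqB 32768 15 0 15 nets [8,1,7,2,2,2] 0 [] = true := by decide +kernel

theorem nets_r41_0 : eqB 32768 15 0 15 nets [7,17] 4 [] = true := by decide +kernel

theorem nets_r42_0 : eqB 32768 15 0 15 nets [7,17,7,18,7,17,2,2] 0 [] = true := by decide +kernel

theorem nets_r43_0 : eqB 32768 15 0 15 nets [19,3,2,4] 0 [] = true := by decide +kernel

theorem nets_r44_0 : eqB 32768 15 0 15 nets [21,3,3,2,4,4] 0 [] = true := by decide +kernel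

theorem nets_r45_0 : eqB 32768 15 0 15 nets [1,2] 0 [] = true := by decide +kernel

theorem nets_r46_0 : eqB 32768 15 0 15 nets [3,4] 0 [] = true := by decide +kernel

theorem nets_r47_0 : eqB 32768 15 0 15 nets [5,6] 0 [] = true := by decide +kernel

theorem nets_r48_0 : eqB 32768 15 0 15 nets [7,8] 0 [] = true := by decide +kernel

theorem nets_r49_0 : eqB 32768 15 0 15 nets [9,10] 0 [] = true := by decide +kernel

theorem nets_r50_0 : eqB 32768 15 0 15 nets [11,12] 0 [] = true := by decide +kernel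

theorem nets_r51_0 : eqB 32768 15 0 15 nets [13,14] 0 [] = true := by decide +kernel

theorem nets_r52_0 : eqB 32768 15 0 15 nets [15,16] 0 [] = true := by decide +kernel

theorem nets_r53_0 : eqB 32768 15 0 15 nets [17,18] 0 [] = true := by decide +kernel

theorem nets_r54_0 : eqB 32768 15 0 15 nets [19,20] 0 [] = true := by decide +kernel

theorem nets_r55_0 : eqB 32768 15 0 15 nets [21,22] 0 [] = true := by decide +kernel

theorem nets_rel : Rels (gp nets) R := by
  unfold R
  try simp only [apd_eq]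
  intro r hr
  simp only [List.mem_append, List.mem_cons, List.not_mem_nil, or_false, or_assoc] at hr
  rcases hr with rfl | rfl | rfl | rfl | rfl | rfl | rfl | rfl | rfl | rfl | rfl | rfl | rfl | rfl | rfl | rfl | rfl | rfl | rfl | rfl | rfl | rfl | rfl | rfl | rfl | rfl | rfl | rfl | rfl | rfl | rfl | rfl | rfl | rfl | rfl | rfl | rfl | rfl | rfl | rfl | rfl | rfl | rfl | rfl | rfl | rfl | rfl | rfl | rfl | rfl | rfl | rfl | rfl | rfl | rfl | rfl
  · exact AgreeBits.eq (k := 15) (agree_of_eqB nets_ok (by norm_num) nets_r0_0) (by norm_num) ((fx_ev nets_ok.fx _).pow _) (Fx.one _)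
  · exact AgreeBits.eq (k := 15) (agree_of_eqB nets_ok (by norm_num) nets_r1_0) (by norm_num) ((fx_ev nets_ok.fx _).pow _) (Fx.one _)
  · exact AgreeBits.eq (k := 15) (agree_of_eqB nets_ok (by norm_num) nets_r2_0) (by norm_num) ((fx_ev nets_ok.fx _).pow _) (Fx.one _)
  · exact AgreeBits.eq (k := 15) (agree_of_eqB nets_ok (by norm_num) nets_r3_0) (by norm_num) ((fx_ev nets_ok.fx _).pow _) (Fx.one _)
  · exact AgreeBits.eq (k := 15) (agree_of_eqB nets_ok (by norm_num) nets_r4_0) (by norm_num) ((fx_ev nets_ok.fx _).pow _) (Fx.one _)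
  · exact AgreeBits.eq (k := 15) (agree_of_eqB nets_ok (by norm_num) nets_r5_0) (by norm_num) ((fx_ev nets_ok.fx _).pow _) (Fx.one _)
  · exact AgreeBits.eq (k := 15) (agree_of_eqB nets_ok (by norm_num) nets_r6_0) (by norm_num) ((fx_ev nets_ok.fx _).pow _) (Fx.one _)
  · exact AgreeBits.eq (k := 15) (agree_of_eqB nets_ok (by norm_num) nets_r7_0) (by norm_num) ((fx_ev nets_ok.fx _).pow _) (Fx.one _)
  · exact AgreeBits.eq (k := 15) (agree_of_eqB nets_ok (by norm_num) nets_r8_0) (by norm_num) ((fx_ev nets_ok.fx _).pow _) (Fx.one _)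
  · exact AgreeBits.eq (k := 15) (agree_of_eqB nets_ok (by norm_num) nets_r9_0) (by norm_num) ((fx_ev nets_ok.fx _).pow _) (Fx.one _)
  · exact AgreeBits.eq (k := 15) (agree_of_eqB nets_ok (by norm_num) nets_r10_0) (by norm_num) ((fx_ev nets_ok.fx _).pow _) (Fx.one _)
  · exact AgreeBits.eq (k := 15) (agree_of_eqB nets_ok (by norm_num) nets_r11_0) (by norm_num) ((fx_ev nets_ok.fx _).pow _) (Fx.one _)
  · exact AgreeBits.eq (k := 15) (agree_of_eqB nets_ok (by norm_num) nets_r12_0) (by norm_num) ((fx_ev nets_ok.fx _).pow _) (Fx.one _)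
  · exact AgreeBits.eq (k := 15) (agree_of_eqB nets_ok (by norm_num) nets_r13_0) (by norm_num) ((fx_ev nets_ok.fx _).pow _) (Fx.one _)
  · exact AgreeBits.eq (k := 15) (agree_of_eqB nets_ok (by norm_num) nets_r14_0) (by norm_num) ((fx_ev nets_ok.fx _).pow _) (Fx.one _)
  · exact AgreeBits.eq (k := 15) (agree_of_eqB nets_ok (by norm_num) nets_r15_0) (by norm_num) ((fx_ev nets_ok.fx _).pow _) (Fx.one _)
  · exact AgreeBits.eq (k := 15) (agree_of_eqB nets_ok (by norm_num) nets_r16_0) (by norm_num) ((fx_ev nets_ok.fx _).pow _) (Fx.one _)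
  · exact AgreeBits.eq (k := 15) (agree_of_eqB nets_ok (by norm_num) nets_r17_0) (by norm_num) ((fx_ev nets_ok.fx _).pow _) (Fx.one _)
  · exact AgreeBits.eq (k := 15) (agree_of_eqB nets_ok (by norm_num) nets_r18_0) (by norm_num) ((fx_ev nets_ok.fx _).pow _) (Fx.one _)
  · exact AgreeBits.eq (k := 15) (agree_of_eqB nets_ok (by norm_num) nets_r19_0) (by norm_num) ((fx_ev nets_ok.fx _).pow _) (Fx.one _)
  · exact AgreeBits.eq (k := 15) (agree_of_eqB nets_ok (by norm_num) nets_r20_0) (by norm_num) ((fx_ev nets_ok.fx _).pow _) (Fx.one _)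
  · exact AgreeBits.eq (k := 15) (agree_of_eqB nets_ok (by norm_num) nets_r21_0) (by norm_num) ((fx_ev nets_ok.fx _).pow _) (Fx.one _)
  · exact AgreeBits.eq (k := 15) (agree_of_eqB nets_ok (by norm_num) nets_r22_0) (by norm_num) ((fx_ev nets_ok.fx _).pow _) (Fx.one _)
  · exact AgreeBits.eq (k := 15) (agree_of_eqB nets_ok (by norm_num) nets_r23_0) (by norm_num) ((fx_ev nets_ok.fx _).pow _) (Fx.one _)
  · exact AgreeBits.eq (k := 15) (agree_of_eqB nets_ok (by norm_num) nets_r24_0) (by norm_num) ((fx_ev nets_ok.fx _).pow _) (Fx.one _)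
  · exact AgreeBits.eq (k := 15) (agree_of_eqB nets_ok (by norm_num) nets_r25_0) (by norm_num) ((fx_ev nets_ok.fx _).pow _) (Fx.one _)
  · exact AgreeBits.eq (k := 15) (agree_of_eqB nets_ok (by norm_num) nets_r26_0) (by norm_num) ((fx_ev nets_ok.fx _).pow _) (Fx.one _)
  · exact AgreeBits.eq (k := 15) (agree_of_eqB nets_ok (by norm_num) nets_r27_0) (by norm_num) ((fx_ev nets_ok.fx _).pow _) (Fx.one _)
  · exact AgreeBits.eq (k := 15) (agree_of_eqB nets_ok (by norm_num) nets_r28_0) (by norm_num) ((fx_ev nets_ok.fx _).pow _) (Fx.one _)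
  · exact AgreeBits.eq (k := 15) (agree_of_eqB nets_ok (by norm_num) nets_r29_0) (by norm_num) ((fx_ev nets_ok.fx _).pow _) (Fx.one _)
  · exact AgreeBits.eq (k := 15) (agree_of_eqB nets_ok (by norm_num) nets_r30_0) (by norm_num) ((fx_ev nets_ok.fx _).pow _) (Fx.one _)
  · exact AgreeBits.eq (k := 15) (agree_of_eqB nets_ok (by norm_num) nets_r31_0) (by norm_num) ((fx_ev nets_ok.fx _).pow _) (Fx.one _)
  · exact AgreeBits.eq (k := 15) (agree_of_eqB nets_ok (by norm_num) nets_r32_0) (by norm_num) ((fx_ev nets_ok.fx _).pow _) (Fx.one _)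
  · exact AgreeBits.eq (k := 15) (agree_of_eqB nets_ok (by norm_num) nets_r33_0) (by norm_num) ((fx_ev nets_ok.fx _).pow _) (Fx.one _)
  · exact AgreeBits.eq (k := 15) (agree_of_eqB nets_ok (by norm_num) nets_r34_0) (by norm_num) ((fx_ev nets_ok.fx _).pow _) (Fx.one _)
  · exact AgreeBits.eq (k := 15) (agree_of_eqB nets_ok (by norm_num) nets_r35_0) (by norm_num) ((fx_ev nets_ok.fx _).pow _) (Fx.one _)
  · exact AgreeBits.eq (k := 15) (agree_of_eqB nets_ok (by norm_num) nets_r36_0) (by norm_num) ((fx_ev nets_ok.fx _).pow _) (Fx.one _)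
  · exact AgreeBits.eq (k := 15) (agree_of_eqB nets_ok (by norm_num) nets_r37_0) (by norm_num) ((fx_ev nets_ok.fx _).pow _) (Fx.one _)
  · exact AgreeBits.eq (k := 15) (agree_of_eqB nets_ok (by norm_num) nets_r38_0) (by norm_num) ((fx_ev nets_ok.fx _).pow _) (Fx.one _)
  · exact AgreeBits.eq (k := 15) (agree_of_eqB nets_ok (by norm_num) nets_r39_0) (by norm_num) ((fx_ev nets_ok.fx _).pow _) (Fx.one _)
  · exact AgreeBits.eq (k := 15) (agree_of_eqB nets_ok (by norm_num) nets_r40_0) (by norm_num) ((fx_ev nets_ok.fx _).pow _) (Fx.one _)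
  · exact AgreeBits.eq (k := 15) (agree_of_eqB nets_ok (by norm_num) nets_r41_0) (by norm_num) ((fx_ev nets_ok.fx _).pow _) (Fx.one _)
  · exact AgreeBits.eq (k := 15) (agree_of_eqB nets_ok (by norm_num) nets_r42_0) (by norm_num) ((fx_ev nets_ok.fx _).pow _) (Fx.one _)
  · exact AgreeBits.eq (k := 15) (agree_of_eqB nets_ok (by norm_num) nets_r43_0) (by norm_num) ((fx_ev nets_ok.fx _).pow _) (Fx.one _)
  · exact AgreeBits.eq (k := 15) (agree_of_eqB nets_ok (by norm_num) nets_r44_0) (by norm_num) ((fx_ev nets_ok.fx _).pow _) (Fx.one _)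
  · exact AgreeBits.eq (k := 15) (agree_of_eqB nets_ok (by norm_num) nets_r45_0) (by norm_num) ((fx_ev nets_ok.fx _).pow _) (Fx.one _)
  · exact AgreeBits.eq (k := 15) (agree_of_eqB nets_ok (by norm_num) nets_r46_0) (by norm_num) ((fx_ev nets_ok.fx _).pow _) (Fx.one _)
  · exact AgreeBits.eq (k := 15) (agree_of_eqB nets_ok (by norm_num) nets_r47_0) (by norm_num) ((fx_ev nets_ok.fx _).pow _) (Fx.one _)
  · exact AgreeBits.eq (k := 15) (agree_of_eqB nets_ok (by norm_num) nets_r48_0) (by norm_num) ((fx_ev nets_ok.fx _).pow _) (Fx.one _)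
  · exact AgreeBits.eq (k := 15) (agree_of_eqB nets_ok (by norm_num) nets_r49_0) (by norm_num) ((fx_ev nets_ok.fx _).pow _) (Fx.one _)
  · exact AgreeBits.eq (k := 15) (agree_of_eqB nets_ok (by norm_num) nets_r50_0) (by norm_num) ((fx_ev nets_ok.fx _).pow _) (Fx.one _)
  · exact AgreeBits.eq (k := 15) (agree_of_eqB nets_ok (by norm_num) nets_r51_0) (by norm_num) ((fx_ev nets_ok.fx _).pow _) (Fx.one _)
  · exact AgreeBits.eq (k := 15) (agree_of_eqB nets_ok (by norm_num) nets_r52_0) (by norm_num) ((fx_ev nets_ok.fx _).pow _) (Fx.one _)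
  · exact AgreeBits.eq (k := 15) (agree_of_eqB nets_ok (by norm_num) nets_r53_0) (by norm_num) ((fx_ev nets_ok.fx _).pow _) (Fx.one _)
  · exact AgreeBits.eq (k := 15) (agree_of_eqB nets_ok (by norm_num) nets_r54_0) (by norm_num) ((fx_ev nets_ok.fx _).pow _) (Fx.one _)
  · exact AgreeBits.eq (k := 15) (agree_of_eqB nets_ok (by norm_num) nets_r55_0) (by norm_num) ((fx_ev nets_ok.fx _).pow _) (Fx.one _)

end Cfsg.Lib.Comp.LyN
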