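import Cfsg.Agent.Lib.Comp.LyN.Perm1

set_option maxRecDepth 100000
set_option Elab.async false

namespace Cfsg.Lib.Comp.LyN

universe u

theorem nets_iv : IvOK (gp nets) iv := ivOK_of_ivB (k := 15) nets_ok (by norm_num) (by decide +kernel)

noncomputable def slp : List (ℕ × List ℕ) := [(64,[6,14,12,17,22,5,5,14,15]),
 (65,[16,13,6,6,21,18,11,13,5]),
 (66,[18,12,15,20,22,22,11,65,12]),
 (67,[11,64,12,21,21,19,16,11,17]),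
 (68,[14,21,21,14,6,12,12,67,13]),
 (69,[14,66,11,11,5,13,22,22,13]),
 (70,[2,4,2,3,6,4,1,6,3,1]),
 (71,[2,4,5,2,3,5,4,1,3,1]),
 (72,[4,4,1,5,2,3,5,3]),
 (73,[4,6,4,1,6,2,3,3]),
 (74,[2,4,2,5,1,3,1]),
 (75,[2,4,2,6,1,3,1]),
 (76,[4,2,3,5,4,1,3]),
 (77,[4,2,3,6,4,1,3]),
 (78,[3,3,2,4,5,3,1,5,4,4,6]),
 (79,[5,3,3,6,2,4,6,3,1,4,4]),
 (80,[2,2,2]),
 (81,[1,1,1]),
 (82,[3,2,4,2,2]),
 (83,[1,1,3,1,4]),
 (84,[1,3,3,1,4,4,2]),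
 (85,[1,3,3,2,4,4,2]),
 (86,[71,75,73,78,85,70,70,75,76]),
 (87,[77,74,71,71,84,79,72,74,70]),
 (88,[79,73,76,83,85,85,72,87,73]),
 (89,[72,86,73,84,84,82,77,72,78]),
 (90,[75,84,84,75,71,73,73,89,74]),
 (91,[75,88,72,72,70,74,85,85,74]),
 (92,[81,7,83,78,86,18,3,70,6]),
 (93,[5,71,4,17,87,79,82,8,80]),
 (94,[92,16,8,6,18,86,89,3,70]),
 (95,[71,4,88,87,17,5,7,15,93]),
 (96,[92,85,95,1,71,87,87,17,67]),
 (97,[66,18,86,86,70,2,94,84,93]),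
 (98,[21,81,20,9,12,76,22,4,18]),
 (99,[17,3,21,77,11,10,19,80,22]),
 (100,[65,86,79,1,95,5,96,82,16]),
 (101,[15,83,97,6,94,2,78,87,64]),
 (102,[22,72,84,8,98,93,67,79,5]),
 (103,[6,78,66,92,99,7,85,73,21])]

theorem slp_ok : slpB 32768 15 nets slp L = true := by decide +kernel

theorem mem_all {x : ℕ} (h : x ∈ L ++ slp.map (·.1)) : gp nets x ∈ cl (gp nets) L :=
  cl_eq_of_slpB nets_ok (by norm_num) slp_ok ▸ mem_cl h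

theorem lb : 5859000000 ≤ Nat.card (cl (gp nets) L) := by
  rw [← cl_eq_of_slpB nets_ok (by norm_num) slp_ok]
  exact lb_of_chainB nets_ok (C := [([1,2,5,6,11,12,13,14,15,16,17,18,19,20,21,22],[3,7,9,1,5,19,11,7,15,9,1,13,7,11,21,9,1,19,3],0,0,19530),
 ([1,2,19,20],[5,11,13,15,17,21,19,1,13,11,21,19,15,1,13,19,5,1],1,1,12500),
 ([],[1,19,1,1,1,1,1,1,1],12505,12505,24)]) (by decide +kernel)

end Cfsg.Lib.Comp.LyN
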