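import Cfsg.Agent.Lib.Comp.LyN.Ctl

set_option maxRecDepth 100000
set_option Elab.async false

namespace Cfsg.Lib.Comp.LyN

universe u

noncomputable def uPR : List (ℕ × List ℕ × List (List ℕ)) := [(0,[],[[],
 [2,2]]),
 (1,[5],[[2,4,5,2,3,5,4,1,3,1]]),
 (1,[6],[[2,4,2,3,6,4,1,6,3,1]]),
 (1,[11],[[4,6,4,1,6,2,3,3]]),
 (1,[12],[[4,4,1,5,2,3,5,3]]),
 (1,[13],[[2,4,2,6,1,3,1]]),
 (1,[14],[[2,4,2,5,1,3,1]]),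
 (1,[15],[[4,2,3,6,4,1,3]]),
 (1,[16],[[4,2,3,5,4,1,3]]),
 (1,[17],[[5,3,3,6,2,4,6,3,1,4,4]]),
 (1,[18],[[3,3,2,4,5,3,1,5,4,4,6]]),
 (1,[1],[[1,1,1]]),
 (1,[2],[[2,2,2]]),
 (1,[19],[[1,1,3,1,4]]),
 (1,[20],[[3,2,4,2,2]]),
 (1,[21],[[1,3,3,2,4,4,2]]),
 (1,[22],[[1,3,3,1,4,4,2]]),
 (0,[],[[2,2],
 []]),
 (1,[4,4,2,3,3],[[2,2,4,4,2,3,3,2,2],
 [2,2,4,4,2,3,3]]),
 (1,[3,2,4,2,3,2,5,1,3,5,4,7,5,4,1,5,3,8,1],[[2,2,7,5,4,1,5,1,7,5],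
 [2,2,3,3,1,3,5,3,3,6,2,5,1,7,5,2,3,5,2,7,5,1]]),
 (0,[3,2,3,3,2,3,5,3,1,4,7,5,3,1,4,7,5,1,1,1],[[2,2,7,1,1],
 [2,2,6,4,6,8,3,3,6,8,3,6,4,6,2,5,4,4,1,4,4,1,4,2],
 [2,2,8],
 [2,2]]),
 (1,[4,6,1,4,4,5,8,5,1,6,2,5,4,4,1,3,1,4,4],[[2,2,8,4],
 [2,2,4,1,3,1,3,6,2,6,1,6,7,5,4,6,1,5,1,1],
 [2,2,3,7,1,1]]),
 (1,[7,3,6,1,6,2,6,8,5,5,1,4,5,4,6,1,3,3,2],[[2,2,6,4,6,8,3,3,6,8,4,6,4,4,6,3,1,3,3,1,3,2,4],
 [2,4,1,3,3,1,6,1,3,2,7,5,1,6,4,6,2,7,1,1],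
 [2,2,3,1,4,2,4,4,2,4,5,3,3,5,3,7,5,4,4,7,5,3,5,1,1]]),
 (0,[8],[[2,2,3,2,3,3,2,3,5,3,1,4,7,5,3,1,4,7,5,1,1,1],
 [2,2,7,1,1],
 [2,2,6,4,6,8,3,3,6,8,3,6,4,6,2,5,4,4,1,4,4,1,4,2],
 [2,2]]),
 (0,[7,3,6,1,6,2,6,8,5,5,1,4,5,4,6,1,3,3,2],[[2,2,6,4,6,8,3,3,6,8,4,6,4,4,6,3,1,3,3,1,3,2,4],
 [2,4,1,3,3,1,6,1,3,2,7,5,1,6,4,6,2,7,1,1],
 [2,2,3,1,4,2,4,4,2,4,5,3,3,5,3,7,5,4,4,7,5,3,5,1,1],
 [2,2]]),
 (1,[3,2,3,3,2,3,5,3,1,4,7,5,3,1,4,7,5,1,1,1],[[2,2,7,1,1],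
 [2,2,6,4,6,8,3,3,6,8,3,6,4,6,2,5,4,4,1,4,4,1,4,2],
 [2,2,8]]),
 (0,[4,6,1,4,4,5,8,5,1,6,2,5,4,4,1,3,1,4,4],[[2,2,8,4],
 [2,2,4,1,3,1,3,6,2,6,1,6,7,5,4,6,1,5,1,1],
 [2,2,3,7,1,1],
 [2,2]])]

noncomputable def uFs : List (List SF) := [[(0,0,0,[],[1]),
 (0,0,0,[],[3]),
 (0,0,0,[],[5]),
 (0,0,0,[],[7]),
 (0,0,0,[],[9]),
 (0,0,0,[],[11]),
 (0,0,0,[],[13]),
 (0,0,0,[],[15]),
 (0,0,0,[],[17]),
 (0,0,0,[],[19]),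
 (0,0,0,[],[21]),
 (0,1,1,[],[]),
 (1,2,1,[8],[]),
 (1,3,1,[8,98],[]),
 (1,4,1,[8,4],[]),
 (0,0,0,[],[64]),
 (0,0,0,[],[66]),
 (0,0,0,[],[68]),
 (0,0,0,[],[70]),
 (0,0,0,[],[72]),
 (0,0,0,[],[74]),
 (0,0,0,[],[76]),
 (0,0,0,[],[78]),
 (0,0,0,[],[80]),
 (0,0,0,[],[82]),
 (0,0,0,[],[84]),
 (0,0,0,[],[86]),
 (0,0,0,[],[88]),
 (0,0,0,[],[90]),
 (0,0,0,[],[92]),
 (0,0,0,[],[94]),
 (0,0,0,[],[96])],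
 [(0,0,0,[],[98]),
 (0,0,0,[],[100]),
 (0,0,0,[],[102]),
 (1,0,1,[],[1,1]),
 (1,1,0,[],[2,2,2]),
 (1,1,0,[],[5,14,5,16]),
 (1,1,0,[],[11,15,15]),
 (1,1,0,[],[2,2,20]),
 (1,1,0,[],[1,21,2]),
 (1,1,1,[22,20,2,3],[2,2,3]),
 (1,1,1,[22,6,11,66,2,99],[1,20,11,13,99,19]),
 (2,1,1,[],[1,1,7]),
 (2,2,0,[],[1,1,1]),
 (2,2,0,[],[1,1,19]),
 (2,2,0,[],[1,1,21]),
 (2,2,0,[6,21,66,2,9,20,93],[1,16,67,65,1,66,9,93,94]),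
 (2,2,1,[6,15,17,19,96,13,21],[1,65,6,21,69,3,7]),
 (2,2,1,[12,14,14,22,97,93,5],[13,69,65,1,67,9,20,93]),
 (2,2,1,[14,64,66,16,2,99],[1,69,14,2,12,99,19]),
 (3,1,1,[],[22,66,1,68,20,93,14,92]),
 (3,3,0,[],[14,19,66,65]),
 (3,3,0,[],[68,11,64,1,19]),
 (3,3,0,[],[13,21,14,2]),
 (3,3,0,[64,19,14,67,2,7],[20,14,68,15,2,3,92,1,100]),
 (3,3,0,[],[69,5,16,1,69]),
 (3,3,0,[],[11,20,65,13,20,94,3,83]),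
 (3,3,0,[1,6,69,1,68,97,93,5],[5,12,5,13,97,97,13]),
 (3,2,1,[2,20,14,2,67,9,20,93],[5,19,5,65,66,7]),
 (2,3,1,[5,19,5,65,66,7],[1,11,69,5,22,9,20,93]),
 (3,2,1,[6,20,14,16,2,9,20,93],[1,19,1,21,20,2,7]),
 (2,3,1,[1,19,1,21,20,2,7],[1,18,66,5,9,20,93]),
 (3,3,1,[5,67,68,1,68,9,20,93],[1,6,69,65,2,22,7])],
 [(3,2,1,[5,14,19,21,96,13,21],[1,69,64,67,6,3,7]),
 (2,3,1,[1,69,64,67,6,3,7],[14,19,14,6,95,12,65]),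
 (3,3,1,[2,16,1,69,65,96,13,21],[68,2,14,21,69,3,7]),
 (3,3,1,[12,68,14,15,96,13,21],[6,6,67,5,14,3,7]),
 (3,2,1,[11,69,14,5,66,9,75,8],[15,22,12,22,7]),
 (2,3,1,[15,22,12,22,7],[14,66,2,67,64,4,7,71]),
 (3,3,1,[20,18,66,19,97,74,86],[1,12,65,68,7]),
 (3,3,1,[16,22,64,67,4,7,5,94],[2,11,68,67,20,9,20,93]),
 (4,1,1,[],[1,1,4,7]),
 (4,4,0,[],[1,1,19]),
 (4,4,0,[],[1,1,21]),
 (4,4,0,[1,21,16,1,96,13,21],[1,22,66,2,15,64,93,66,101]),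
 (4,4,0,[],[67,2,18,67,21,3,67,102,75]),
 (4,3,1,[5,66,65,5,66,9,20,93],[1,6,12,69,13,1,7]),
 (3,4,1,[1,6,12,69,13,1,7],[19,67,12,13,2,9,20,93]),
 (3,4,1,[14,17,68,2,20,97,93,5],[1,13,13,5,69,9,20,93]),
 (4,3,1,[1,13,13,5,69,9,20,93],[68,65,2,64,7,65,16]),
 (4,4,1,[14,1,19,6,96,13,21],[1,65,6,21,69,3,7]),
 (2,4,1,[6,69,19,2,6,9,20,93],[5,5,19,21,16,7]),
 (4,2,1,[5,5,19,21,16,7],[1,69,65,1,67,9,20,93]),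
 (4,4,1,[20,2,16,68,64,9,20,93],[5,67,2,11,69,7]),
 (4,4,1,[68,2,66,64,12,9,20,93],[21,12,12,7]),
 (4,4,1,[2,5,19,67,1,20,9,20,93],[66,69,1,66,20,7]),
 (2,4,1,[11,64,20,6,66,9,20,93],[19,21,2,7]),
 (4,2,1,[19,21,2,7],[22,68,22,16,2,9,20,93]),
 (3,4,1,[21,67,12,1,67,9,20,93],[21,12,15,7]),
 (4,3,1,[21,12,15,7],[22,66,13,66,9,20,93]),
 (4,4,1,[64,66,19,69,2,9,20,93],[69,19,65,65,7]),
 (4,2,1,[1,19,65,1,64,13,97,93,5],[17,67,14,1,69,9,20,93]),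
 (2,4,1,[17,67,14,1,69,9,20,93],[19,14,1,21,65,7,65,16]),
 (4,4,1,[1,69,19,5,5,97,93,5],[21,69,1,15,69,9,20,93]),
 (4,3,1,[2,67,11,21,2,97,93,5],[20,13,2,11,66,9,20,93])],
 [(3,4,1,[20,13,2,11,66,9,20,93],[2,64,19,1,12,67,7,65,16]),
 (4,4,1,[11,21,20,2,15,97,93,5],[1,12,69,12,5,9,20,93]),
 (4,4,1,[20,11,13,1,20,97,93,5],[2,69,16,1,68,68,9,20,93]),
 (4,4,1,[2,69,16,1,68,68,9,20,93],[66,13,1,65,7,65,16]),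
 (4,3,1,[1,19,6,19,68,97,93,5],[5,12,66,64,12,9,20,93]),
 (3,4,1,[5,12,66,64,12,9,20,93],[1,69,13,21,66,7,65,16]),
 (4,4,1,[65,18,1,97,93,5],[11,64,20,2,15,9,20,93]),
 (4,4,1,[11,64,20,2,15,9,20,93],[65,2,16,20,7,65,16]),
 (4,4,1,[1,22,65,15,13,97,93,5],[1,13,17,69,13,9,20,93]),
 (4,4,1,[1,13,17,69,13,9,20,93],[1,65,68,11,16,7,65,16]),
 (4,3,1,[1,14,5,68,65,97,93,5],[1,66,6,20,16,2,9,20,93]),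
 (3,4,1,[1,66,6,20,16,2,9,20,93],[2,15,69,6,7,65,16]),
 (4,3,1,[15,1,12,15,97,93,5],[12,1,13,67,16,9,20,93]),
 (3,4,1,[12,1,13,67,16,9,20,93],[1,12,66,22,11,7,65,16]),
 (4,4,1,[69,67,69,14,96,13,21],[5,14,19,69,11,3,7]),
 (3,4,1,[1,15,69,2,68,68,96,13,21],[69,11,1,14,20,3,7]),
 (4,3,1,[69,11,1,14,20,3,7],[1,67,1,67,14,1,95,12,65]),
 (4,4,1,[1,12,16,20,68,1,96,13,21],[5,69,2,69,65,3,7]),
 (4,4,1,[14,68,1,20,67,93,67,3],[2,64,66,1,65,7]),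
 (4,4,1,[2,64,66,1,65,7],[68,20,66,2,100,15,84]),
 (4,4,1,[1,14,20,65,97,72,21],[19,22,6,2,66,7]),
 (2,2,0,[],[19,13,1,6,68,9,93,94]),
 (3,3,0,[],[11,20,65,13,20,94,3,83]),
 (4,4,0,[],[1,22,66,2,15,64,93,66,101])]]

noncomputable def uF : ℕ → SF := nth2 (0,0,0,[],[]) uFs

noncomputable def uPA : List (List (List ℕ)) := [[],
 [[]],
 [[],
 [8]],
 [[],
 [8,98]],
 [[],
 [8,4]]]

noncomputable def uV : List SN := [(0,[0,1,2,3,4,5,6,7,9,10,15,17,27,28,29,30,31,33,34],[1,3,4,29,30,31,33,34,5,28,17,27,10,34,7,15,29,0],[(11,0)],[([0,2,6,9,10],[1,3,4,29,30,31,33,34,5,28,17,27,10,34,7,15,29,0],0,19530),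
 ([0,9],[2,6,10,2,9,6,0,2,10,6,9,0,2,10,6,0,2,0],1,12500),
 ([],[0,9,0,0,0,0,0,0,0],141,24)],1),
 (1,[36,37,38,39,40],[38,40,39,36,38,40,39,38,36,40,38,39,36,38,40,39,38,36,39],[(35,0),
 (41,12501),
 (42,12536),
 (12,12655),
 (13,15780),
 (14,1)],[([36,39],[38,40,37,38,39,36,40,38,39,36,38,40,39,38,36,40,39,38,36],1,12500),
 ([],[36,39,36,36,36,36,36,36,36],141,24)],19530),
 (2,[44,45,46,117],[44,46,45,44,46,45,117,46,44,45,117,45,46,44,117,46,44,45,45],[(43,0),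
 (48,11825),
 (49,12715),
 (50,12510),
 (60,13472),
 (62,12655),
 (65,10989),
 (69,14580),
 (82,17184),
 (87,15843),
 (93,17144)],[([],[44,45,46,44,45,44,46,117,45,44,46,117,44,45,46,117,44,46,45,44],165,6048)],968750),
 (3,[52,53,54,56,58],[52,54,56,52,53,58,54,52,56,54,52,58,54,56,52,54,52,52],[(51,0),
 (59,19160),
 (61,16123),
 (63,18290),
 (64,7093),
 (66,3751),
 (67,8343),
 (68,6354),
 (70,5351),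
 (71,219),
 (78,15071),
 (79,15673),
 (89,16778),
 (96,17701),
 (101,16831),
 (107,16822),
 (109,18484),
 (111,8581)],[([],[52,54,53,52,56,58,54,52,56,54,52,58,54,56,52,54,52,52],5,2880)],2034375),
 (4,[73,74,75,76],[73,74,73,73,75,74,73,76,74,73,74,75,74,73,76,73,73,73],[(72,0),
 (77,15781),
 (80,15923),
 (81,11819),
 (83,13462),
 (84,18532),
 (85,15854),
 (86,18537),
 (88,12655),
 (90,12807),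
 (91,19076),
 (92,15561),
 (94,14378),
 (95,14145),
 (97,12911),
 (98,13282),
 (99,17711),
 (100,14092),
 (102,14524),
 (103,15951),
 (104,14518),
 (105,18560),
 (106,15545),
 (108,13275),
 (110,10713),
 (112,9613),
 (113,12340),
 (114,7841),
 (115,14584),
 (116,7188)],[([],[73,74,73,73,75,73,74,76,73,74,73,75,73,74,76,73,73,73],9,1008)],5812500)]

noncomputable def uDs : List (List SD) := [[(0,0,[],[]),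
 (0,0,[],[]),
 (0,0,[],[]),
 (0,0,[],[]),
 (0,0,[],[]),
 (0,0,[],[]),
 (0,0,[],[]),
 (0,0,[],[]),
 (0,0,[],[]),
 (0,0,[],[]),
 (0,0,[],[]),
 (0,0,[],[]),
 (0,0,[],[]),
 (0,0,[],[]),
 (0,0,[],[]),
 (0,999,[],[14,13,4,4,21,16,11,13,5]),
 (0,999,[],[11,31,10,21,21,19,14,11,17]),
 (0,999,[],[12,33,11,11,5,13,20,20,13]),
 (0,999,[],[0,2,5,0,3,5,2,1,3,1]),
 (0,999,[],[2,4,2,1,4,0,3,3]),
 (0,999,[],[0,2,0,4,1,3,1]),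
 (0,999,[],[2,0,3,4,2,1,3]),
 (0,999,[],[5,3,3,4,0,2,4,3,1,2,2]),
 (0,999,[],[1,1,1]),
 (0,999,[],[1,1,3,1,2]),
 (0,999,[],[1,3,3,0,2,2,0]),
 (0,999,[],[42,41,36,36,51,44,39,41,37]),
 (0,999,[],[39,53,38,51,51,49,42,39,45]),
 (0,999,[],[40,55,39,39,37,41,50,50,41]),
 (0,999,[],[5,36,2,17,52,44,49,6,47]),
 (0,999,[],[36,2,55,52,17,5,7,15,58]),
 (0,999,[],[33,16,53,53,37,0,61,51,58])],
 [(0,999,[],[17,3,21,42,11,8,19,47,20]),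
 (0,999,[],[15,48,62,4,61,0,45,52,31]),
 (0,999,[],[4,45,33,59,64,7,50,38,21]),
 (1,11,[],[]),
 (0,17,[([],35,[]),
 ([0],11,[1])],[]),
 (0,17,[([],35,[]),
 ([4],11,[5])],[]),
 (0,17,[([],35,[]),
 ([12],11,[13])],[]),
 (0,17,[([],35,[]),
 ([18],11,[19])],[]),
 (0,17,[([],35,[]),
 ([20],11,[21])],[]),
 (0,18,[([],35,[]),
 ([2],11,[1,19,22])],[]),
 (0,19,[([],35,[]),
 ([48,10,8],11,[2,6,67,20,2])],[]),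
 (1,12,[],[]),
 (0,17,[([],43,[]),
 ([72],12,[2])],[]),
 (0,17,[([],43,[]),
 ([78],12,[20])],[]),
 (0,17,[([],43,[]),
 ([80],12,[22])],[]),
 (0,20,[([],43,[1,1]),
 ([],35,[]),
 ([59,19,8],11,[1,14,11,66,20]),
 ([74,78,74,79,74],12,[1,19,21,19])],[]),
 (0,21,[([],43,[1,19,1,21,20]),
 ([72,78,80],41,[1,19,22,20,2]),
 ([76,73,74,77,75],12,[1,64,69,65,67])],[]),
 (0,22,[([],43,[15,67,20,22]),
 ([72,78,76],42,[64,68,5,2,69]),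
 ([80,74,78,74],12,[6,11,65,22])],[]),
 (0,19,[([],43,[12,16,16]),
 ([78,74],12,[20,13,2,67,2])],[]),
 (1,13,[],[]),
 (0,17,[([],51,[]),
 ([74],13,[14,11,14,16])],[]),
 (0,17,[([],51,[]),
 ([72,72],13,[6,13,67,1,67])],[]),
 (0,17,[([],51,[]),
 ([79,80,72],13,[1,18,67,19,5])],[]),
 (0,23,[([],51,[64,19,14,67,2]),
 ([],35,[2,2,2]),
 ([6],11,[1]),
 ([78],13,[11,16,19,11])],[]),
 (0,999,[],[104,104,104,110,110,104,108,106]),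
 (0,999,[],[112,110,106,104,104,108,108,112]),
 (0,24,[([],51,[5,69,2,12,17]),
 ([],35,[2,11,22,20]),
 ([52,42,6],11,[64,17,21,67]),
 ([80,75,80,76,72],13,[19,14,65,69])],[]),
 (0,25,[([],51,[5,65,5,20,2]),
 ([80,76,72],42,[6,67,67,65]),
 ([73,76,79,74],12,[5,21,14,69,21])],[]),
 (1,59,[],[]),
 (0,25,[([],51,[5,65,5,19]),
 ([80,76,72],42,[18,19,1,16]),
 ([75,72,76],12,[1,19,1,22,20,2])],[]),
 (1,61,[],[]),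
 (0,25,[([],51,[1,15,20,67,21]),
 ([78,72,77],42,[14,66,11,5]),
 ([76,78],13,[1,66,2,5,16])],[])],
 [(0,21,[([],51,[18,22,68,2,66]),
 ([79,77],42,[16,69,1,6,19]),
 ([74,79,75,72,75],12,[1,14,69,69,21])],[]),
 (1,64,[],[]),
 (0,21,[([],51,[1,5,67,1,67,1]),
 ([72,78,80],42,[69,1,19,5,21]),
 ([79,72,75,78],13,[2,64,19,2,67,5])],[]),
 (0,21,[([],51,[69,69,1,19,68]),
 ([76,76,73],42,[69,2,67,64,16]),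
 ([72,76,72,77,72],13,[16,22,20,14])],[]),
 (0,25,[([],59,[13,69,6,66,2]),
 ([95,95,95,92,94],43,[65,1,1,15]),
 ([76,79,76,75],12,[5,68,19,64])],[]),
 (1,68,[],[]),
 (0,25,[([],68,[21,67,1,22,69]),
 ([88,90,94],43,[6,11,67,11,5]),
 ([73,79,80,74,72],13,[13,2,69,21])],[]),
 (0,22,[([],64,[5,5,20,2,65]),
 ([95,95],43,[5,21,16,14]),
 ([72,74,78,76,72],13,[5,68,67,64,2])],[]),
 (1,14,[],[]),
 (0,17,[([],72,[]),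
 ([72],14,[20])],[]),
 (0,17,[([],72,[]),
 ([78],14,[22])],[]),
 (0,26,[([],72,[2,20,22]),
 ([],35,[21,20,2]),
 ([20,12,62],11,[2,15,21,2]),
 ([80,72,78,74,80,76],14,[1,19,22])],[]),
 (0,999,[],[146,146,146,150,150,146,148,150]),
 (0,25,[([],72,[2,20,22]),
 ([],41,[]),
 ([78,80],13,[66,1,67,20,69])],[]),
 (1,77,[],[]),
 (0,22,[([],51,[1,66,21,68,2]),
 ([72,78,80],41,[1,1,6]),
 ([75,73,76,79,80,74],14,[12,5,15,68,1])],[]),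
 (1,79,[],[]),
 (0,21,[([],72,[19,1,21,19]),
 ([72,78,80],41,[19,1]),
 ([80,76,81,76],14,[1,64,69,65,67])],[]),
 (0,25,[([],43,[20,5,19]),
 ([78,77,77],42,[12,22,67,2,68]),
 ([72,77,80,74,77],14,[19,6,22])],[]),
 (1,82,[],[]),
 (0,25,[([],72,[64,6,64,67,1]),
 ([73,78,72],42,[21,2,15,15]),
 ([79,77,75,76,80,75],14,[67,2,68,67])],[]),
 (0,25,[([],72,[1,20,22,5,21]),
 ([73,79,73],42,[19,68,1,20,13]),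
 ([81,73,78,76,74,80],14,[1,15,1,5,21])],[]),
 (0,25,[([],72,[1,19,1,11,20]),
 ([79],42,[14,22,20,2,13]),
 ([75,81,76,81,77],14,[20,6,68,1,66])],[]),
 (0,25,[([],43,[1,21,20,5,22]),
 ([73,76,72],42,[68,12,1,68,11]),
 ([75,78,75,81,76],14,[19,2,22])],[]),
 (1,87,[],[]),
 (0,25,[([],51,[67,2,11,14,19]),
 ([78,72,77],42,[13,12,69,2,11]),
 ([76,79,75,73,75],14,[1,1,14,67,20])],[]),
 (1,89,[],[]),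
 (0,25,[([],72,[22,6,22,20]),
 ([79],42,[14,67,11,14]),
 ([81,72,76,78,76],14,[11,64,64,20,68])],[]),
 (0,22,[([],72,[19,1,66,16,14]),
 ([72,78,76],42,[5,22,66,2,5,19]),
 ([72,75,78,77],12,[12,13,68,67,1])],[]),
 (1,92,[],[]),
 (0,22,[([],72,[1,1,11,1,68]),
 ([75,80],42,[15,19,64,13]),
 ([80,76,74,79,77],14,[1,5,16,65,15])],[]),
 (0,22,[([],72,[2,13,21,20,2]),
 ([73,76],42,[67,2,11,5,67]),
 ([76,81,74,76,76],13,[11,67,1,21])],[])],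
 [(1,95,[],[]),
 (0,22,[([],72,[2,69,69,1,69]),
 ([80,76],42,[14,19,17,1,66]),
 ([77,80,75,72,74],14,[5,67,65,65,1])],[]),
 (0,22,[([],72,[1,19,2,22,13]),
 ([72,78,76],42,[20,11,68,1,19]),
 ([80,76,74,78,74],14,[11,11,5,15])],[]),
 (1,98,[],[]),
 (0,22,[([],72,[5,2,67,22,16]),
 ([73,73,76],42,[6,66,19,2,5,20]),
 ([77,78,74,72],13,[1,19,6,22,69])],[]),
 (1,100,[],[]),
 (0,22,[([],72,[2,6,13,11,16]),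
 ([72,76],42,[6,11,68,13]),
 ([74,76,81,72,76],14,[1,64,17,67,64])],[]),
 (1,102,[],[]),
 (0,22,[([],72,[1,5,21,13]),
 ([79,77,72],42,[1,11,64,66,12]),
 ([76,80,74,79,76],14,[68,1,14])],[]),
 (1,104,[],[]),
 (0,22,[([],72,[1,5,21,14,66,64]),
 ([75,80],42,[11,68,68]),
 ([75,79,74,78],13,[11,5,69,16,1])],[]),
 (1,106,[],[]),
 (0,22,[([],72,[1,21,13]),
 ([79,77,72],42,[1,12,16,68,65]),
 ([80,76,79,74,72],13,[1,1,69,13,21])],[]),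
 (1,108,[],[]),
 (0,21,[([],72,[1,5,19,2,22]),
 ([76,79,72],42,[5,20,65,68,6]),
 ([73,78,80,74,79,74],14,[69,67,64,15])],[]),
 (0,21,[([],51,[2,22,11,64,67,2]),
 ([80,78,72],42,[1,68,2,14,11,68]),
 ([73,78,76,75,80,74],14,[11,65,67,2,67])],[]),
 (1,111,[],[]),
 (0,21,[([],72,[1,20,12,20]),
 ([80],42,[1,5,68,2,18]),
 ([80,75,79,75,80,74],14,[20,65,1,65,67])],[]),
 (0,25,[([],83,[2,12,15,18]),
 ([91,95,91,94,94],43,[1,13,13,19,18]),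
 ([80,78,76,81,74],14,[67,1,64,67])],[]),
 (1,114,[],[]),
 (0,25,[([],92,[13,67,1,67,21]),
 ([95,95,95],43,[19,12,65,1,19]),
 ([73,78,74,80,74],14,[69,2,14,69,15])],[]),
 (0,999,[],[94,92]),
 (0,999,[],[114]),
 (0,999,[],[150])]]

noncomputable def uD : ℕ → SD := nth2 (0,0,[],[]) uDs

end Cfsg.Lib.Comp.LyN
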