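import Cfsg.Agent.Lib.Comp.LyN.Up0

set_option maxRecDepth 100000
set_option Elab.async false

namespace Cfsg.Lib.Comp.LyN

universe u

theorem uD_15 : allR 15 105 1 (fun j => der tb B Lc civ L0 al j1 j2 uPR uF (uD j) j) = true := by decide +kernel

theorem uD_ok : ∀ j, 15 ≤ j → j < 120 → der tb B Lc civ L0 al j1 j2 uPR uF (uD j) j = true :=
  (rng_of_allR uD_15)

end Cfsg.Lib.Comp.LyN
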